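import Mathlib
import Cfsg.Agent.Lib.Perm.Basic

set_option autoImplicit false

namespace Cfsg.Agent.Lib.AltPair

open Equiv Equiv.Perm
open scoped Pointwise

variable {α : Type*} [Fintype α] [DecidableEq α]

/-- A permutation commuting with a cycle and fixing everything outside it is a power of it. -/
theorem mem_zpowers_of_commute {g c : Perm α} (hc : c.IsCycle) (hcomm : Commute g c)
    (hfix : ∀ x, x ∉ c.support → g x = x) : g ∈ Subgroup.zpowers c := by
  obtain ⟨hc', hmem⟩ := hc.commute_iff.1 hcomm
  have hg : ofSubtype (subtypePerm g hc') = g := by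
    apply Equiv.ext
    intro x
    by_cases hx : x ∈ c.support
    · exact ofSubtype_subtypePerm_of_mem hc' hx
    · rw [ofSubtype_apply_of_not_mem _ hx, hfix x hx]
  rwa [hg] at hmem

/-- A transitive group containing a cycle of prime length more than half the degree is primitive. -/
theorem isPreprimitive_of_cycle (H : Subgroup (Perm α)) (htr : MulAction.IsPretransitive H α)
    {y : Perm α} (hyH : y ∈ H) (hy : y.IsCycle) {q : ℕ} (hq : q.Prime) (hyq : y.support.card = q)
    (hd : Fintype.card α < 2 * q) : MulAction.IsPreprimitive H α := by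
  obtain ⟨a, ha⟩ := hy.nonempty_support
  refine MulAction.IsPreprimitive.of_isTrivialBlock_base a fun {B} haB hB => ?_
  by_cases hsub : B.Subsingleton
  · exact Or.inl hsub
  right
  have hB2 : 2 ≤ B.ncard := by
    obtain ⟨u, hu, v, hv, huv⟩ := Set.not_subsingleton_iff.1 hsub
    have := Set.ncard_le_ncard (Set.insert_subset hu (Set.singleton_subset_iff.2 hv)) B.toFinite
    rwa [Set.ncard_pair huv] at this
  have hne : B.Nonempty := ⟨a, haB⟩
  set y' : H := ⟨y, hyH⟩
  set Y := Subgroup.zpowers y'
  have hyB : y' • B = B := by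
    have h1 : (MulAction.orbit Y B).ncard ∣ q := by
      rw [← MulAction.index_stabilizer]
      refine (Subgroup.index_dvd_card _).trans ?_
      rw [Nat.card_zpowers, Subgroup.orderOf_mk, hy.orderOf, hyq]
    have h2 : (MulAction.orbit Y B).ncard ≤ (MulAction.orbit H B).ncard :=
      Set.ncard_le_ncard (by rintro _ ⟨g, rfl⟩; exact ⟨(g : H), rfl⟩) (Set.toFinite _)
    have h3 := hB.ncard_block_mul_ncard_orbit_eq hne
    rw [Nat.card_eq_fintype_card] at h3
    have h4 : 2 * (MulAction.orbit H B).ncard ≤ Fintype.card α :=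
      h3 ▸ Nat.mul_le_mul_right _ hB2
    rcases (Nat.dvd_prime hq).1 h1 with h5 | h5
    · obtain ⟨C, hC⟩ := Set.ncard_eq_one.1 h5
      have e1 : (⟨y', Subgroup.mem_zpowers y'⟩ : Y) • B ∈ MulAction.orbit Y B := MulAction.mem_orbit _ _
      have e2 : B ∈ MulAction.orbit Y B := MulAction.mem_orbit_self _
      rw [hC, Set.mem_singleton_iff] at e1 e2
      exact e1.trans e2.symm
    · omega
  have hstab : Y ≤ MulAction.stabilizer H B := Subgroup.zpowers_le.2 hyB
  have hsupp : (y.support : Set α) ⊆ B := by
    intro x hx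
    obtain ⟨i, hi⟩ := hy.exists_zpow_eq (mem_support.1 ha) (mem_support.1 hx)
    have h6 : (y' ^ i) • B = B := hstab (Subgroup.zpow_mem_zpowers y' i)
    rw [← h6, ← hi]
    refine ⟨a, haB, ?_⟩
    show ((y' ^ i : H) : Perm α) a = (y ^ i) a
    rfl
  apply hB.eq_univ_of_card_lt
  have := Set.ncard_le_ncard hsupp B.toFinite
  rw [Set.ncard_coe_finset, hyq] at this
  rw [Nat.card_eq_fintype_card]
  omega

/-- `A ≤ Perm α` with a point `c`: order = orbit length × order of the stabiliser. -/
theorem card_eq_orbit_mul (A : Subgroup (Perm α)) (c : α) :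
    Nat.card A = (MulAction.orbit A c).ncard * Nat.card ↥(A ⊓ MulAction.stabilizer (Perm α) c) := by
  have h1 : Nat.card (MulAction.stabilizer A c) = Nat.card ↥(A ⊓ MulAction.stabilizer (Perm α) c) :=
    Nat.card_congr
      { toFun := fun g => ⟨(g.1 : Perm α), g.1.2, g.2⟩
        invFun := fun g => ⟨⟨g.1, g.2.1⟩, g.2.2⟩
        left_inv := fun g => rfl
        right_inv := fun g => rfl }
  rw [← MulAction.index_stabilizer, ← h1, mul_comm, Subgroup.card_mul_index]

end Cfsg.Agent.Lib.AltPair
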