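import Mathlib
import Cfsg.Agent.Lib.AltPair.Basic
import Cfsg.Agent.Lib.ClassSize.Cover
import Cfsg.Agent.S0713
import Cfsg.Agent.Lib.Transfer.PResidual

/-!
Degree 13: an even permutation group with a 13-cycle and an 11-cycle is alternating.
-/

set_option autoImplicit false

namespace Cfsg.Agent.Lib.AltPair

open Equiv Equiv.Perm
open scoped Pointwise

variable {α : Type*} [Fintype α] [DecidableEq α]

/-- A `5`-cycle. -/
private theorem alt_of_five (H : Subgroup (Perm α)) (hprim : MulAction.IsPreprimitive H α)
    (hα : Fintype.card α = 13) {v : Perm α} (hv : v ∈ H) (hvo : orderOf v = 5)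
    (hs : v.support.card < 10) : alternatingGroup α ≤ H := by
  haveI : Fact (Nat.Prime 5) := ⟨by norm_num⟩
  have hc : v.IsCycle := isCycle_of_prime_order (by rw [hvo]; norm_num) (by rw [hvo]; omega)
  exact S0713.result H hprim (p := 5) (by norm_num) (by omega) (by omega) hc (hc.orderOf ▸ hvo) hv

private theorem zpow_dvd {x : Perm α} (hx : x.IsCycle) {c : α} (hc : c ∈ x.support) {i : ℤ}
    (h : (x ^ i) c = c) : (orderOf x : ℤ) ∣ i := by
  rw [orderOf_dvd_iff_zpow_eq_one]
  apply Equiv.ext
  intro d
  by_cases hd : d ∈ x.support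
  · obtain ⟨j, rfl⟩ := hx.exists_zpow_eq (mem_support.1 hc) (mem_support.1 hd)
    rw [← mul_apply, (Commute.zpow_zpow_self x i j).eq, mul_apply, h, one_apply]
  · rw [zpow_apply_eq_self_of_apply_eq_self (notMem_support.1 hd), one_apply]

theorem alternating_le_degree13 (H : Subgroup (Perm α)) (hH : H ≤ alternatingGroup α)
    (hα : Fintype.card α = 13) (hprim : MulAction.IsPreprimitive H α)
    {x : Perm α} (hxH : x ∈ H) (hx : x.IsCycle) (hxc : x.support.card = 11) :
    alternatingGroup α ≤ H := by
  classical
  haveI : Fact (Nat.Prime 11) := ⟨by norm_num⟩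
  obtain ⟨a, b, hab, hcompl⟩ := Finset.card_eq_two.1
    (show x.supportᶜ.card = 2 by rw [Finset.card_compl]; omega)
  have hout : ∀ c, c ∉ x.support ↔ c = a ∨ c = b := fun c => by
    rw [← Finset.mem_compl, hcompl]; simp
  have h3tr : MulAction.IsMultiplyPretransitive H α 3 := by
    have hcardc : Nat.card (SubMulAction.ofFixingSubgroup H ((x.support : Set α)ᶜ)) = 11 := by
      rw [← hxc, ← Nat.card_eq_finsetCard]
      exact Nat.card_congr (Equiv.subtypeEquivRight fun c => by simp [SubMulAction.mem_ofFixingSubgroup_iff])
    haveI := Equiv.Perm.isPretransitive_of_isCycle_mem hx hxH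
    have hp' := MulAction.IsPreprimitive.of_prime_card
      (G := fixingSubgroup H ((x.support : Set α)ᶜ))
      (X := SubMulAction.ofFixingSubgroup H ((x.support : Set α)ᶜ)) (hcardc.symm ▸ (by norm_num))
    exact (hprim.isMultiplyPreprimitive (n := 1)
      (by rw [← Finset.coe_compl, Set.ncard_coe_finset, hcompl, Finset.card_pair hab])
      (by rw [Nat.card_eq_fintype_card]; omega) hp').isMultiplyPretransitive
  let St : α → Subgroup (Perm α) := fun c => MulAction.stabilizer (Perm α) c
  set K := H ⊓ St a ⊓ St b with hK
  have hKmem : ∀ g, g ∈ K ↔ g ∈ H ∧ g a = a ∧ g b = b := fun g => by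
    simp [hK, St, Subgroup.mem_inf, MulAction.mem_stabilizer_iff, and_assoc]
  have hKfix : ∀ g ∈ K, ∀ c, c ∉ x.support → g c = c := by
    intro g hg c hc
    rcases (hout c).1 hc with rfl | rfl
    exacts [((hKmem g).1 hg).2.1, ((hKmem g).1 hg).2.2]
  have hxK : x ∈ K := (hKmem x).2 ⟨hxH, notMem_support.1 ((hout a).2 (Or.inl rfl)),
    notMem_support.1 ((hout b).2 (Or.inr rfl))⟩
  have hxo : orderOf x = 11 := hx.orderOf.trans hxc
  obtain ⟨c₀, hc₀⟩ := hx.nonempty_support
  have hpow : ∀ c ∈ x.support, ∃ i : ℤ, (x ^ i) c₀ = c := fun c hc =>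
    hx.exists_zpow_eq (mem_support.1 hc₀) (mem_support.1 hc)
  have hKinv : ∀ g ∈ K, ∀ c, g c ∈ x.support ↔ c ∈ x.support := by
    intro g hg c
    constructor
    · intro h
      by_contra hc'
      rw [hKfix g hg c hc'] at h
      exact hc' h
    · intro hc
      by_contra hgc
      have h1 := g.injective (hKfix g hg _ hgc)
      rw [h1] at hgc
      exact hgc hc
  have horbK : MulAction.orbit K c₀ = (x.support : Set α) := by
    ext c
    constructor
    · rintro ⟨g, rfl⟩
      exact (hKinv g.1 g.2 c₀).2 hc₀
    · intro hc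
      obtain ⟨i, hi⟩ := hpow c hc
      exact ⟨⟨x ^ i, K.zpow_mem hxK i⟩, hi⟩
  set L := K ⊓ St c₀ with hL
  have hKL : Nat.card K = 11 * Nat.card L := by
    rw [card_eq_orbit_mul K c₀, horbK, Set.ncard_coe_finset, hxc]
  have hC : ∀ g ∈ K, Commute g x → g ∈ Subgroup.zpowers x := fun g hg hgx =>
    mem_zpowers_of_commute hx hgx (hKfix g hg)
  by_cases h5 : 5 ∣ Nat.card L
  · -- an element of order five in the stabiliser of three points
    haveI : Fact (Nat.Prime 5) := ⟨by norm_num⟩
    have hc₀a : c₀ ≠ a := fun e => (hout c₀).2 (Or.inl e) hc₀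
    have hc₀b : c₀ ≠ b := fun e => (hout c₀).2 (Or.inr e) hc₀
    have hLfix : ∀ g ∈ L, g ∈ H ∧ g a = a ∧ g b = b ∧ g c₀ = c₀ := fun g hg =>
      ⟨((hKmem g).1 hg.1).1, ((hKmem g).1 hg.1).2.1, ((hKmem g).1 hg.1).2.2, hg.2⟩
    obtain ⟨R⟩ : Nonempty (Sylow 5 L) := inferInstance
    obtain ⟨u', hu'⟩ := exists_prime_orderOf_dvd_card' 5
      (show 5 ∣ Nat.card (Subgroup.center (R : Subgroup L)) by
        have hne : Nontrivial (R : Subgroup L) := by
          rw [← Finite.one_lt_card_iff_nontrivial]
          calc 1 < 5 := by norm_num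
            _ ≤ _ := Nat.le_of_dvd Nat.card_pos (R.dvd_card_of_dvd_card h5)
        have := R.isPGroup'.center_nontrivial
        obtain ⟨n, hn0, hn⟩ := (R.isPGroup'.to_subgroup _).nontrivial_iff_card.1 this
        rw [hn]; exact dvd_pow_self 5 (by omega))
    set u : Perm α := ((u'.1 : L) : Perm α) with hu
    have huo : orderOf u = 5 := by rw [hu, Subgroup.orderOf_coe, Subgroup.orderOf_coe, Subgroup.orderOf_coe, hu']
    have huL : u ∈ L := (u'.1 : L).2
    by_cases hs : u.support.card < 10
    · exact alt_of_five H hprim hα (hLfix u huL).1 huo hs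
    push Not at hs
    have hsub : u.support ⊆ Finset.univ \ {a, b, c₀} := by
      intro c hc
      obtain ⟨-, h1, h2, h3⟩ := hLfix u huL
      simp only [Finset.mem_sdiff, Finset.mem_univ, true_and, Finset.mem_insert, Finset.mem_singleton]
      rintro (rfl | rfl | rfl)
      exacts [mem_support.1 hc h1, mem_support.1 hc h2, mem_support.1 hc h3]
    have hcard3 : ({a, b, c₀} : Finset α).card = 3 :=
      Finset.card_eq_three.2 ⟨a, b, c₀, hab, hc₀a.symm, hc₀b.symm, rfl⟩
    have hsupp : u.support = Finset.univ \ {a, b, c₀} := by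
      refine Finset.eq_of_subset_of_card_le hsub ?_
      rw [Finset.card_univ_diff, hcard3]
      omega
    have htwo : u.cycleFactorsFinset.card = 2 := by
      obtain ⟨n, hn⟩ := cycleType_prime_order (σ := u) (by rw [huo]; norm_num)
      have h1 := sum_cycleType u
      rw [hn, Multiset.sum_replicate, huo, hsupp, Finset.card_univ_diff, hcard3, hα, smul_eq_mul] at h1
      have h2 : u.cycleType.card = 2 := by rw [hn, Multiset.card_replicate]; omega
      rw [← h2, cycleType_def, Multiset.card_map]
      rfl
    -- a permutation commuting with `u` keeps each of the two `u`-orbits under squaring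
    have hsq : ∀ w : Perm α, Commute w u → ∀ c ∈ u.support, ∃ i : ℤ, (u ^ i) c = w (w c) := by
      intro w hw c hc
      have hinv := mem_support_iff_of_commute hw
      have h1 : w c ∈ u.support := (hinv c).2 hc
      have h2 : w (w c) ∈ u.support := (hinv _).2 h1
      have hcyc : ∀ d ∈ u.support, u.cycleOf d ∈ u.cycleFactorsFinset := fun d hd =>
        cycleOf_mem_cycleFactorsFinset_iff.2 hd
      have hsame : ∀ d ∈ u.support, ∀ e, u.cycleOf d = u.cycleOf e → ∃ i : ℤ, (u ^ i) d = e := by
        intro d hd e he
        have hde : e ∈ (u.cycleOf d).support := by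
          rw [he, mem_support_cycleOf_iff]
          refine ⟨SameCycle.refl _ _, ?_⟩
          rw [mem_support]
          intro hue
          have : u.cycleOf e = 1 := cycleOf_eq_one_iff u |>.2 hue
          rw [← he, cycleOf_eq_one_iff] at this
          exact mem_support.1 hd this
        exact (mem_support_cycleOf_iff.1 hde).1
      obtain ⟨A, B, hAB, hset⟩ := Finset.card_eq_two.1 htwo
      have hA := hcyc c hc; have hB := hcyc _ h1; have hD := hcyc _ h2
      simp only [hset, Finset.mem_insert, Finset.mem_singleton] at hA hB hD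
      have hback : (∃ i : ℤ, (u ^ i) c = w c) → ∃ i : ℤ, (u ^ i) c = w (w c) := by
        rintro ⟨i, hi⟩
        refine ⟨i + i, ?_⟩
        have : w ((u ^ i) c) = (u ^ i) (w c) := Perm.congr_fun (hw.zpow_right i).eq c
        rw [hi] at this
        rw [this, zpow_add, mul_apply, hi]
      by_cases e1 : u.cycleOf c = u.cycleOf (w (w c))
      · exact hsame c hc _ e1
      by_cases e2 : u.cycleOf c = u.cycleOf (w c)
      · exact hback (hsame c hc _ e2)
      have e3 : u.cycleOf (w c) = u.cycleOf (w (w c)) := by
        rcases hA with hA | hA <;> rcases hB with hB | hB <;> rcases hD with hD | hD <;>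
          simp_all
      obtain ⟨i, hi⟩ := hsame _ h1 _ e3
      refine hback ⟨i, w.injective ?_⟩
      rw [← hi]
      exact Perm.congr_fun (hw.zpow_right i).eq c
    by_cases hR : Nat.card (R : Subgroup L) = 5
    · -- the normaliser of `R` permutes the three fixed points cyclically
      obtain ⟨h, hha, hhb, hhc⟩ := Cfsg.Agent.Lib.Perm.exists_smul_three h3tr
        hab hc₀a.symm hc₀b.symm hc₀b.symm hab.symm hc₀a
      set A := (R : Subgroup L).map L.subtype with hA
      have hhL : ∀ g ∈ L, (h : Perm α) * g * (h : Perm α)⁻¹ ∈ L := by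
        intro g hg
        obtain ⟨g1, g2, g3, g4⟩ := hLfix g hg
        have ha' : (h : Perm α)⁻¹ b = a := Equiv.Perm.inv_eq_iff_eq.2 hha.symm
        have hb' : (h : Perm α)⁻¹ c₀ = b := Equiv.Perm.inv_eq_iff_eq.2 hhb.symm
        have hc' : (h : Perm α)⁻¹ a = c₀ := Equiv.Perm.inv_eq_iff_eq.2 hhc.symm
        refine ⟨(hKmem _).2 ⟨H.mul_mem (H.mul_mem h.2 g1) (H.inv_mem h.2), ?_, ?_⟩, ?_⟩
        · rw [mul_apply, mul_apply, hc', g4]; exact hhc
        · rw [mul_apply, mul_apply, ha', g2]; exact hha
        · show ((h : Perm α) * g * (h : Perm α)⁻¹) c₀ = c₀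
          rw [mul_apply, mul_apply, hb', g3]; exact hhb
      obtain ⟨l, hl⟩ : ∃ l : L, ∀ v ∈ A, ((l : Perm α) * h) * v * ((l : Perm α) * h)⁻¹ ∈ A := by
        let φ : L →* L :=
          { toFun := fun g => ⟨(h : Perm α) * g * (h : Perm α)⁻¹, hhL g g.2⟩
            map_one' := by ext1; simp
            map_mul' := fun g k => by ext1; simp [mul_assoc] }
        have hinj : Function.Injective φ := fun g k e => Subtype.ext
          (mul_left_cancel (mul_right_cancel (congrArg Subtype.val e)))
        have hp1 : IsPGroup 5 ((R : Subgroup L).map φ) := R.isPGroup'.map φ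
        obtain ⟨Q, hQ⟩ := hp1.exists_le_sylow
        obtain ⟨l, hl⟩ := MulAction.exists_smul_eq L Q R
        refine ⟨l, ?_⟩
        rintro v ⟨v', hv', rfl⟩
        have h1 : l * φ v' * l⁻¹ ∈ (R : Subgroup L) := by
          rw [← hl, Sylow.coe_subgroup_smul, Subgroup.mem_pointwise_smul_iff_inv_smul_mem]
          simpa [MulAut.smul_def, mul_assoc] using hQ ⟨v', hv', rfl⟩
        refine ⟨_, h1, ?_⟩
        simp [φ, mul_assoc]
      set n : Perm α := (l : Perm α) * h with hn
      obtain ⟨l1, l2, l3, l4⟩ := hLfix _ l.2
      have hnH : n ∈ H := H.mul_mem l1 h.2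
      have hna : n a = b := by rw [hn, mul_apply, show (h : Perm α) a = b from hha, l3]
      have hnb : n b = c₀ := by rw [hn, mul_apply, show (h : Perm α) b = c₀ from hhb, l4]
      have hnc : n c₀ = a := by rw [hn, mul_apply, show (h : Perm α) c₀ = a from hhc, l2]
      have huA : u ∈ A := ⟨_, u'.1.2, rfl⟩
      have hAc : Nat.card A = 5 := by rw [hA, Subgroup.card_map_of_injective L.subtype_injective, hR]
      have hAz : Subgroup.zpowers u = A := by
        refine Subgroup.eq_of_le_of_card_ge (Subgroup.zpowers_le.2 huA) ?_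
        rw [hAc, Nat.card_zpowers, huo]
      obtain ⟨k, hk⟩ : ∃ k : ℤ, u ^ k = n * u * n⁻¹ := by
        have := hl u huA
        rw [← hAz] at this
        exact this
      have hn4 : Commute (n ^ 4) u := by
        have hit : ∀ j : ℕ, n ^ j * u * (n ^ j)⁻¹ = u ^ (k ^ j) := by
          intro j
          induction j with
          | zero => simp
          | succ j ih =>
            rw [pow_succ' n j, pow_succ k j, show n * n ^ j * u * (n * n ^ j)⁻¹ = n * (n ^ j * u * (n ^ j)⁻¹) * n⁻¹ by group,
              ih, ← conj_zpow, ← hk, ← zpow_mul, mul_comm]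
        have h4 : u ^ (k ^ 4) = u := by
          have hk5 : ¬ (5 : ℤ) ∣ k := by
            intro hd
            have : n * u * n⁻¹ = 1 := by
              rw [← hk]
              exact orderOf_dvd_iff_zpow_eq_one.1 (by rw [huo]; exact_mod_cast hd)
            rw [conj_eq_one_iff] at this
            rw [this, orderOf_one] at huo
            norm_num at huo
          have : k ^ 4 ≡ 1 [ZMOD 5] := by
            have := Int.ModEq.pow_card_sub_one_eq_one (p := 5) (by norm_num) (n := k)
              ((Int.prime_iff_natAbs_prime.2 (by norm_num)).coprime_iff_not_dvd.2 hk5).symm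
            simpa using this
          calc u ^ (k ^ 4) = u ^ (1 : ℤ) := by
                rw [zpow_eq_zpow_iff_modEq, huo]; exact_mod_cast this
            _ = u := zpow_one u
        have := hit 4
        rw [h4] at this
        exact mul_inv_eq_iff_eq_mul.1 this
      set w := n ^ 4 with hw
      have hwa : w a = b := by simp [hw, pow_succ, mul_apply, hna, hnb, hnc]
      have hwb : w b = c₀ := by simp [hw, pow_succ, mul_apply, hna, hnb, hnc]
      have hwc : w c₀ = a := by simp [hw, pow_succ, mul_apply, hna, hnb, hnc]
      haveI : Fact (Nat.Prime 3) := ⟨Nat.prime_three⟩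
      obtain ⟨g, v, hgv, hcomm, ⟨e, he⟩, hv3, hgmem, hvmem⟩ := ClassSize.exists_pParts (p := 3) w
      have hgH : g ∈ H := Subgroup.zpowers_le.2 (H.pow_mem hnH 4) hgmem
      have hgu : Commute g u := by
        obtain ⟨i, rfl⟩ := hgmem
        exact hn4.zpow_left i
      have hgfix : ∀ c ∈ u.support, g c = c := by
        intro c hc
        have hco : Nat.Coprime 10 (3 ^ e) := Nat.Coprime.pow_right e (by norm_num)
        obtain ⟨i, hi⟩ := hsq g hgu c hc
        have h10 : (g ^ 10) c = c := by
          have hm : ∀ j : ℕ, ((g * g) ^ j) c = (u ^ (i * j)) c := by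
            intro j
            induction j with
            | zero => simp
            | succ j ih =>
              rw [pow_succ', mul_apply, ih]
              have hcc : g (g ((u ^ (i * j)) c)) = (u ^ (i * j)) (g (g c)) := by
                rw [← mul_apply, ← mul_apply, ((hgu.mul_left hgu).zpow_right (i * j)).eq]
                rfl
              rw [mul_apply, hcc, ← hi, ← mul_apply, ← zpow_add]
              congr 2
              push_cast; ring
          have h10' := hm 5
          rw [← pow_two, ← pow_mul] at h10'
          rw [h10', mul_comm, zpow_mul, show u ^ ((5 : ℕ) : ℤ) = 1 by rw [zpow_natCast, ← huo, pow_orderOf_eq_one],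
            one_zpow, one_apply]
        have h3 : (g ^ 3 ^ e) c = c := by rw [← he, pow_orderOf_eq_one, one_apply]
        have hgc : Nat.gcd 10 (3 ^ e) = 1 := hco
        have hmem10 : g ^ 10 ∈ St c := h10
        have hmem3 : g ^ 3 ^ e ∈ St c := h3
        obtain ⟨p1, p2, hpq⟩ := Int.isCoprime_iff_gcd_eq_one.2
          (show Int.gcd ((10 : ℕ) : ℤ) ((3 ^ e : ℕ) : ℤ) = 1 by rw [Int.gcd_natCast_natCast]; exact hco)
        have hg : g = (g ^ 10) ^ p1 * (g ^ 3 ^ e) ^ p2 := by
          rw [← zpow_natCast g 10, ← zpow_natCast g (3 ^ e), ← zpow_mul, ← zpow_mul, ← zpow_add,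
            mul_comm _ p1, mul_comm _ p2, hpq, zpow_one]
        show g ∈ St c
        rw [hg]
        exact (St c).mul_mem ((St c).zpow_mem hmem10 _) ((St c).zpow_mem hmem3 _)
      have hg1 : g ≠ 1 := by
        intro hg1
        rw [hg1, one_mul] at hgv
        have h9 : (orderOf w).Coprime 3 := hgv ▸ hv3
        have hrep : ∀ j : ℕ, (w ^ (3 * j)) a = a ∧ (w ^ (3 * j + 1)) a = b ∧ (w ^ (3 * j + 2)) a = c₀ := by
          intro j
          induction j with
          | zero => simp [pow_succ, mul_apply, hwa, hwb]
          | succ j ih =>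
            obtain ⟨-, -, h2⟩ := ih
            have h0 : (w ^ (3 * (j + 1))) a = a := by
              rw [show 3 * (j + 1) = (3 * j + 2) + 1 by ring, pow_succ', mul_apply, h2, hwc]
            have h1 : (w ^ (3 * (j + 1) + 1)) a = b := by rw [pow_succ', mul_apply, h0, hwa]
            exact ⟨h0, h1, by rw [pow_succ', mul_apply, h1, hwb]⟩
        have hz : (w ^ orderOf w) a = a := by rw [pow_orderOf_eq_one, one_apply]
        obtain ⟨r1, r2, r3⟩ := hrep (orderOf w / 3)
        have hdm := Nat.div_add_mod (orderOf w) 3
        have : orderOf w % 3 = 0 := by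
          rcases (show orderOf w % 3 = 0 ∨ orderOf w % 3 = 1 ∨ orderOf w % 3 = 2 by omega) with h | h | h
          · exact h
          · rw [h] at hdm; rw [← hdm, r2] at hz; exact absurd hz hab.symm
          · rw [h] at hdm; rw [← hdm, r3] at hz; exact absurd hz hc₀a
        have h33 : 3 ∣ orderOf w := Nat.dvd_of_mod_eq_zero this
        have := Nat.eq_one_of_dvd_coprimes h9 h33 (dvd_refl 3)
        norm_num at this
      have hgs : g.support ⊆ {a, b, c₀} := by
        intro c hc
        by_contra hcc
        exact mem_support.1 hc (hgfix c (by rw [hsupp]; simp [Finset.mem_sdiff] at hcc ⊢; exact hcc))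
      have hthree : g.IsThreeCycle := by
        rw [← card_support_eq_three_iff]
        have h1 := Finset.card_le_card hgs
        rw [hcard3] at h1
        have h2 : 2 ≤ g.support.card := two_le_card_support_of_ne_one hg1
        rcases (show g.support.card = 2 ∨ g.support.card = 3 by omega) with h | h
        · exfalso
          have ho : orderOf g = 2 := (card_support_eq_two.1 h).orderOf
          have : 2 ∣ 3 ^ e := by rw [← he, ho]
          exact absurd (Nat.prime_two.dvd_of_dvd_pow this) (by norm_num)
        · exact h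
      exact Equiv.Perm.alternatingGroup_le_of_isPreprimitive_of_isThreeCycle_mem hprim hthree hgH
    · -- a second element of order five
      obtain ⟨w', hw', hwo⟩ : ∃ w' : (R : Subgroup L), w' ∉ Subgroup.zpowers u'.1 ∧ w' ^ 5 = 1 := by
        by_contra hcon
        push Not at hcon
        obtain ⟨m, hm⟩ := IsPGroup.iff_card.1 R.isPGroup'
        -- every element is of order dividing five, as it moves only ten points
        have hexp : ∀ t : (R : Subgroup L), t ^ 5 = 1 := by
          intro t
          obtain ⟨j, hj⟩ := IsPGroup.iff_orderOf.1 R.isPGroup' t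
          apply orderOf_dvd_iff_pow_eq_one.1
          rw [hj]
          rcases (show j ≤ 1 ∨ 2 ≤ j by omega) with hj1 | hj2
          · exact (pow_dvd_pow 5 hj1).trans (dvd_of_eq (pow_one 5))
          exfalso
          have h25 : 25 ∣ orderOf ((t : L) : Perm α) := by
            rw [Subgroup.orderOf_coe, Subgroup.orderOf_coe, hj]
            exact pow_dvd_pow 5 hj2
          have hne : ((t : L) : Perm α).cycleType ≠ 0 := fun h0 => by
            rw [← lcm_cycleType, h0] at h25; norm_num at h25
          have hall : ∀ k ∈ ((t : L) : Perm α).cycleType, k ∣ 5 := by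
            intro k hk
            have h1 : k ∣ 5 ^ j := by
              have := dvd_of_mem_cycleType hk
              rwa [Subgroup.orderOf_coe, Subgroup.orderOf_coe, hj] at this
            obtain ⟨i, -, rfl⟩ := (Nat.dvd_prime_pow (by norm_num : Nat.Prime 5)).1 h1
            have h2 : 5 ^ i ≤ 13 := (le_card_support_of_mem_cycleType hk).trans
              ((Finset.card_le_univ _).trans hα.le)
            have h3 : i < 2 := (Nat.pow_lt_pow_iff_right (by norm_num : 1 < 5)).1 (by omega : 5 ^ i < 5 ^ 2)
            exact (pow_dvd_pow 5 (show i ≤ 1 by omega)).trans (dvd_of_eq (pow_one 5))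
          have := (lcm_cycleType ((t : L) : Perm α)) ▸ (Multiset.lcm_dvd.2 hall)
          exact absurd (h25.trans this) (by norm_num)
        have hall : ∀ t : (R : Subgroup L), t ∈ Subgroup.zpowers u'.1 := fun t => by
          by_contra ht
          exact hcon t ht (hexp t)
        apply hR
        rw [← Subgroup.card_top (G := (R : Subgroup L)), ← (eq_top_iff.2 fun t _ => hall t : Subgroup.zpowers u'.1 = ⊤),
          Nat.card_zpowers, Subgroup.orderOf_coe, hu']
      set w : Perm α := ((w' : L) : Perm α) with hwdef
      have hwL : w ∈ L := (w' : L).2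
      have hwu : Commute w u := by
        have h1 := Subgroup.mem_center_iff.1 u'.2 w'
        exact congrArg (fun t : (R : Subgroup L) => ((t : L) : Perm α)) h1
      have hw5 : w ^ 5 = 1 := by
        have := congrArg (fun t : (R : Subgroup L) => ((t : L) : Perm α)) hwo
        simpa [hwdef] using this
      obtain ⟨c, hc⟩ : u.support.Nonempty := Finset.card_pos.1 (by omega)
      obtain ⟨i, hi⟩ := hsq w hwu c hc
      -- `w ^ 2 * u ^ (-i)` fixes the orbit of `c`
      set v := u ^ (-i) * (w * w) with hv
      have hvc : ∀ j : ℤ, v ((u ^ j) c) = (u ^ j) c := by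
        intro j
        have h1 : Commute v (u ^ j) :=
          (((Commute.refl u).zpow_left (-i)).mul_left (hwu.mul_left hwu)).zpow_right j
        have h2 : v c = c := by
          rw [hv, mul_apply, mul_apply, ← hi, ← mul_apply, ← zpow_add, neg_add_cancel, zpow_zero, one_apply]
        rw [← mul_apply, h1.eq, mul_apply, h2]
      have hv1 : v ≠ 1 := by
        intro hv1
        apply hw'
        have h1 : w * w = u ^ i := by
          rw [hv, zpow_neg, inv_mul_eq_one] at hv1
          exact hv1.symm
        have h2 : w = u ^ (3 * i) := by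
          calc w = w ^ 5 * w := by rw [hw5, one_mul]
            _ = (w * w) ^ 3 := by rw [← pow_succ, ← pow_two, ← pow_mul]
            _ = u ^ (3 * i) := by rw [h1, ← zpow_natCast, ← zpow_mul, mul_comm]; rfl
        refine ⟨3 * i, ?_⟩
        apply Subtype.ext; apply Subtype.ext
        simpa [hu, hwdef] using h2.symm
      have hvo : orderOf v = 5 := by
        refine orderOf_eq_prime ?_ hv1
        rw [hv, (((hwu.mul_left hwu).zpow_right (-i)).symm).mul_pow, ← zpow_natCast (u ^ (-i)) 5, ← zpow_mul, mul_comm,
          zpow_mul, zpow_natCast, ← huo, pow_orderOf_eq_one, one_zpow, one_mul, huo,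
          (Commute.refl w).mul_pow, hw5, one_mul]
      have hvH : v ∈ H := H.mul_mem (H.zpow_mem (hLfix u huL).1 _) (H.mul_mem (hLfix w hwL).1 (hLfix w hwL).1)
      refine alt_of_five H hprim hα hvH hvo ?_
      have hsub' : v.support ⊆ Finset.univ \ insert c ({a, b, c₀} : Finset α) := by
        intro d hd
        simp only [Finset.mem_sdiff, Finset.mem_univ, true_and, Finset.mem_insert, Finset.mem_singleton]
        have hfix3 : ∀ e, e = a ∨ e = b ∨ e = c₀ → v e = e := by
          intro e he
          have hue : u e = e := by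
            obtain ⟨-, q1, q2, q3⟩ := hLfix u huL
            rcases he with rfl | rfl | rfl <;> assumption
          have hwe : w e = e := by
            obtain ⟨-, q1, q2, q3⟩ := hLfix w hwL
            rcases he with rfl | rfl | rfl <;> assumption
          rw [hv, mul_apply, mul_apply, hwe, hwe]
          exact zpow_apply_eq_self_of_apply_eq_self hue (-i)
        rintro (rfl | h)
        · exact mem_support.1 hd (by simpa using hvc 0)
        · exact mem_support.1 hd (hfix3 d h)
      refine lt_of_le_of_lt (Finset.card_le_card hsub') ?_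
      rw [Finset.card_univ_diff, Finset.card_insert_of_notMem, hcard3, hα]
      · norm_num
      · intro hmem
        exact (Finset.mem_sdiff.1 (hsupp ▸ hc)).2 hmem
  · -- the two point stabiliser is generated by `x`
    exfalso
    have hP : Nat.card (Subgroup.zpowers x) = 11 := by rw [Nat.card_zpowers, hxo]
    have hL1 : Nat.card L = 1 := by
      set X := (Subgroup.zpowers x).subgroupOf K
      have hXc : Nat.card X = 11 := by
        rw [Nat.card_congr (Subgroup.subgroupOfEquivOfLe (Subgroup.zpowers_le.2 hxK)).toEquiv, hP]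
      have hXi : X.index = Nat.card L := by
        have := Subgroup.card_mul_index X
        rw [hXc, hKL] at this
        exact Nat.eq_of_mul_eq_mul_left (by norm_num) this
      -- `11` does not divide `|L|`
      have hL11 : ¬ 11 ∣ Nat.card L := by
        intro hd
        obtain ⟨t, ht⟩ := exists_prime_orderOf_dvd_card' 11 hd
        have hto : orderOf (t : Perm α) = 11 := by rw [Subgroup.orderOf_coe, ht]
        have htc : (t : Perm α).IsCycle :=
          isCycle_of_prime_order' (by rw [hto]; norm_num) (by rw [hto, hα]; norm_num)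
        have hsub : (t : Perm α).support ⊆ x.support.erase c₀ := by
          intro c hc
          rw [Finset.mem_erase]
          refine ⟨fun e => mem_support.1 hc (e ▸ t.2.2), ?_⟩
          by_contra hcx
          exact mem_support.1 hc (hKfix _ t.2.1 c hcx)
        have := Finset.card_le_card hsub
        rw [← htc.orderOf, hto, Finset.card_erase_of_mem hc₀, hxc] at this
        norm_num at this
      have hXp : IsPGroup 11 X := IsPGroup.of_card (n := 1) (by rw [hXc, pow_one])
      let P : Sylow 11 K := hXp.toSylow (by rwa [hXi])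
      have hPX : (P : Subgroup K) = X := rfl
      by_cases hNC : Subgroup.normalizer ((P : Subgroup K) : Set K) ≤ Subgroup.centralizer ((P : Subgroup K) : Set K)
      · set N := (MonoidHom.transferSylow P hNC).ker with hN
        have hcompl' := MonoidHom.ker_transferSylow_isComplement' P hNC
        have hN11 := MonoidHom.not_dvd_card_ker_transferSylow P hNC
        have hNcard : Nat.card N = Nat.card L := by
          have h' := hcompl'.card_mul
          have hPc : Nat.card (P : Subgroup K) = 11 := hXc
          rw [hPc, hKL, mul_comm] at h'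
          exact Nat.eq_of_mul_eq_mul_left (by norm_num) h'
        have horb : ∀ c ∈ x.support, (MulAction.orbit N c).ncard = 1 := by
          intro c hc
          obtain ⟨i, hi⟩ := hpow c hc
          letI : MulAction K {d : α // d ∈ x.support} :=
            { smul := fun g d => ⟨(g : Perm α) d, (hKinv g g.2 d).2 d.2⟩
              one_smul := fun d => Subtype.ext rfl
              mul_smul := fun g k d => Subtype.ext rfl }
          haveI : MulAction.IsPretransitive K {d : α // d ∈ x.support} := by
            constructor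
            rintro ⟨d, hd⟩ ⟨e, he⟩
            obtain ⟨i, hi⟩ := hx.exists_zpow_eq (mem_support.1 hd) (mem_support.1 he)
            exact ⟨⟨x ^ i, K.zpow_mem hxK i⟩, Subtype.ext hi⟩
          have hblock := MulAction.IsBlock.orbit_of_normal (N := N) (⟨c, hc⟩ : {d : α // d ∈ x.support})
          have hdvd := hblock.ncard_dvd_card ⟨_, MulAction.mem_orbit_self _⟩
          have h11 : Nat.card {d : α // d ∈ x.support} = 11 := by
            rw [Nat.card_eq_fintype_card, Fintype.card_coe, hxc]
          rw [h11] at hdvd
          have himg : MulAction.orbit N c =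
              Subtype.val '' MulAction.orbit N (⟨c, hc⟩ : {d : α // d ∈ x.support}) := by
            ext d
            constructor
            · rintro ⟨g, rfl⟩; exact ⟨_, ⟨g, rfl⟩, rfl⟩
            · rintro ⟨_, ⟨g, rfl⟩, rfl⟩; exact ⟨g, rfl⟩
          rw [himg, Set.ncard_image_of_injective _ Subtype.val_injective]
          rcases (Nat.dvd_prime (by norm_num : Nat.Prime 11)).1 hdvd with h | h
          · exact h
          · exfalso
            apply hN11
            have hd' : (MulAction.orbit N (⟨c, hc⟩ : {d : α // d ∈ x.support})).ncard ∣ Nat.card N := by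
              rw [← MulAction.index_stabilizer]
              exact Subgroup.index_dvd_card _
            exact (dvd_of_eq h.symm).trans hd'
        rw [← hNcard, Subgroup.card_eq_one, Subgroup.eq_bot_iff_forall]
        intro g hg
        apply Subtype.ext
        apply Equiv.ext
        intro c
        by_cases hc : c ∈ x.support
        · obtain ⟨d, hd⟩ := Set.ncard_eq_one.1 (horb c hc)
          have e1 : (g : Perm α) c ∈ MulAction.orbit N c := ⟨⟨g, hg⟩, rfl⟩
          have e2 : c ∈ MulAction.orbit N c := MulAction.mem_orbit_self c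
          rw [hd, Set.mem_singleton_iff] at e1 e2
          rw [e1, ← e2]; rfl
        · exact hKfix _ g.2 c hc
      · -- some element inverts `x`, and is odd
        obtain ⟨t, htN, htC⟩ := SetLike.not_le_iff_exists.1 hNC
        have hconj : ∀ s ∈ Subgroup.normalizer ((P : Subgroup K) : Set K), ∃ k : ℤ,
            x ^ k = (s : Perm α) * x * (s : Perm α)⁻¹ := by
          intro s hs
          have h1 : (⟨x, hxK⟩ : K) ∈ (P : Subgroup K) := by
            rw [hPX]; exact Subgroup.mem_zpowers x
          have h2 := (Subgroup.mem_normalizer_iff.1 hs _).1 h1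
          change _ ∈ (P : Subgroup K) at h2
          rw [hPX] at h2
          exact h2
        set Nk := Subgroup.normalizer ((P : Subgroup K) : Set K)
        have hCP : ∀ s ∈ Nk, Commute (s : Perm α) x → s ∈ (P : Subgroup K) := by
          intro s _ hs
          rw [hPX]
          exact hC _ s.2 hs
        have hst : ∀ s ∈ Nk, ∀ k : ℤ, x ^ k = (s : Perm α) * x * (s : Perm α)⁻¹ → ∀ j : ℕ,
            (s : Perm α) ^ j * x * ((s : Perm α) ^ j)⁻¹ = x ^ (k ^ j) := by
          intro s _ k hk j
          induction j with
          | zero => simp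
          | succ j ih =>
            rw [pow_succ' (s : Perm α) j, pow_succ k j,
              show (s : Perm α) * (s : Perm α) ^ j * x * ((s : Perm α) * (s : Perm α) ^ j)⁻¹ =
                (s : Perm α) * ((s : Perm α) ^ j * x * ((s : Perm α) ^ j)⁻¹) * (s : Perm α)⁻¹ by group,
              ih, ← conj_zpow, ← hk, ← zpow_mul, mul_comm]
        obtain ⟨k, hk⟩ := hconj t htN
        have hk11 : ¬ (11 : ℤ) ∣ k := by
          intro hd
          have : (t : Perm α) * x * (t : Perm α)⁻¹ = 1 := by
            rw [← hk]
            exact orderOf_dvd_iff_zpow_eq_one.1 (by rw [hxo]; exact_mod_cast hd)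
          rw [conj_eq_one_iff] at this
          rw [this, orderOf_one] at hxo
          norm_num at hxo
        have hcop : IsCoprime k (11 : ℤ) :=
          ((Int.prime_iff_natAbs_prime.2 (by norm_num)).coprime_iff_not_dvd.2 hk11).symm
        -- `t ^ 10` centralises `x`, so the `2`-part or the `5`-part of `t` does not
        have ht10 : Commute ((t : Perm α) ^ 10) x := by
          have := hst t htN k hk 10
          have h10 : x ^ (k ^ 10) = x := by
            have hmod : k ^ 10 ≡ 1 [ZMOD 11] := by
              simpa using Int.ModEq.pow_card_sub_one_eq_one (p := 11) (by norm_num) hcop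
            calc x ^ (k ^ 10) = x ^ (1 : ℤ) := by
                  rw [zpow_eq_zpow_iff_modEq, hxo]; exact_mod_cast hmod
              _ = x := zpow_one x
          rw [h10] at this
          exact mul_inv_eq_iff_eq_mul.1 this
        set s := t ^ 11 with hsdef
        have hsN : s ∈ Nk := Nk.pow_mem htN 11
        have ht10P : t ^ 10 ∈ (P : Subgroup K) := hCP _ (Nk.pow_mem htN 10) (by simpa using ht10)
        have hs10 : s ^ 10 = 1 := by
          have := congrArg Subtype.val (pow_card_eq_one' (x := (⟨t ^ 10, ht10P⟩ : (P : Subgroup K))))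
          have hPc : Nat.card (P : Subgroup K) = 11 := by rw [hPX, hXc]
          rw [hPc] at this
          rw [hsdef, ← pow_mul, mul_comm, pow_mul]
          simpa using this
        have hsx : ¬ Commute (s : Perm α) x := by
          intro hsx
          apply htC
          have hsP := hCP s hsN hsx
          have htP : t ∈ (P : Subgroup K) := by
            have : t = s * (t ^ 10)⁻¹ := by rw [hsdef, pow_succ' t 10]; group
            rw [this]
            exact (P : Subgroup K).mul_mem hsP ((P : Subgroup K).inv_mem ht10P)
          rw [Subgroup.mem_centralizer_iff]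
          intro v hv
          rw [SetLike.mem_coe, hPX] at hv
          rw [hPX] at htP
          obtain ⟨i, hi⟩ := hv
          obtain ⟨j, hj⟩ := htP
          apply Subtype.ext
          show (v : Perm α) * (t : Perm α) = t * v
          rw [show (v : Perm α) = x ^ i from hi.symm, show (t : Perm α) = x ^ j from hj.symm]
          exact (Commute.zpow_zpow_self x i j).eq
        -- since `5` does not divide the order, `s` is an involution
        have hs2 : s ^ 2 = 1 := by
          have h1 : orderOf (s ^ 2) ∣ 5 := orderOf_dvd_of_pow_eq_one (by rw [← pow_mul]; exact hs10)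
          rcases (Nat.dvd_prime (by norm_num : Nat.Prime 5)).1 h1 with h | h
          · exact orderOf_eq_one_iff.1 h
          · exfalso
            apply h5
            have h2 : 5 ∣ Nat.card K := h ▸ orderOf_dvd_natCard _
            rw [hKL] at h2
            exact (Nat.Coprime.dvd_of_dvd_mul_left (by norm_num) h2)
        set σ : Perm α := (s : Perm α) with hσdef
        have hσ2 : σ * σ = 1 := by
          have := congrArg Subtype.val hs2
          simpa [pow_two] using this
        obtain ⟨m, hm⟩ := hconj s hsN
        have hm2 := hst s hsN m hm 2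
        rw [pow_two (s : Perm α), ← hσdef, hσ2, one_mul, inv_one, mul_one] at hm2
        have hminv : σ * x * σ⁻¹ = x⁻¹ := by
          have h1 : ((11 : ℕ) : ℤ) ∣ m ^ 2 - 1 := by
            rw [← hxo]
            rw [orderOf_dvd_iff_zpow_eq_one, zpow_sub_one, ← hm2, mul_inv_cancel]
          rw [show m ^ 2 - 1 = (m - 1) * (m + 1) by ring] at h1
          rcases (Nat.prime_iff_prime_int.1 (by norm_num : Nat.Prime 11)).dvd_or_dvd h1 with h2 | h2
          · exfalso
            apply hsx
            have h3 : x ^ (m - 1) = 1 := orderOf_dvd_iff_zpow_eq_one.1 (by rw [hxo]; exact h2)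
            rw [zpow_sub_one, mul_inv_eq_one] at h3
            rw [h3] at hm
            exact mul_inv_eq_iff_eq_mul.1 hm.symm
          · have h3 : x ^ (m + 1) = 1 := orderOf_dvd_iff_zpow_eq_one.1 (by rw [hxo]; exact h2)
            rw [zpow_add_one, mul_eq_one_iff_eq_inv] at h3
            rw [← hm, h3]
        have hone : (x.support.filter fun c => σ c = c).card ≤ 1 := by
          rw [Finset.card_le_one]
          intro c hc d hd
          rw [Finset.mem_filter] at hc hd
          obtain ⟨i, hi⟩ := hx.exists_zpow_eq (mem_support.1 hc.1) (mem_support.1 hd.1)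
          have h4 : σ * x ^ i * σ⁻¹ = x ^ (-i) := by rw [← conj_zpow, hminv, inv_zpow, zpow_neg]
          have h5' : (x ^ (-i)) c = d := by
            rw [← h4, mul_apply, mul_apply, Equiv.Perm.inv_eq_iff_eq.2 hc.2.symm, hi, hd.2]
          have h6 : (x ^ (i + i)) c = c := by
            have h7 : (x ^ i) c = (x ^ (-i)) c := hi.trans h5'.symm
            rw [zpow_add, mul_apply, h7, ← mul_apply, ← zpow_add, add_neg_cancel, zpow_zero, one_apply]
          have h8 : (11 : ℤ) ∣ i + i := by
            have := zpow_dvd hx hc.1 h6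
            rw [hxo] at this
            exact_mod_cast this
          have h9 : x ^ i = 1 := orderOf_dvd_iff_zpow_eq_one.1 (by
            rw [hxo]; push_cast; omega)
          rw [← hi, h9, one_apply]
        have hsupp : σ.support = x.support.filter fun c => σ c ≠ c := by
          ext c
          rw [Finset.mem_filter, mem_support]
          exact ⟨fun h => ⟨by_contra fun hcx => h (hKfix _ s.2 c hcx), h⟩, fun h => h.2⟩
        have hsum := Finset.card_filter_add_card_filter_not (s := x.support) (fun c => σ c = c)
        rw [← hsupp, hxc] at hsum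
        have hσ1 : σ ≠ 1 := fun h => hsx (by rw [h]; exact Commute.one_left x)
        obtain ⟨r, hr⟩ := cycleType_prime_order (σ := σ) (by
          rw [orderOf_eq_prime (p := 2) (by rw [pow_two, hσ2]) hσ1]; norm_num)
        rw [orderOf_eq_prime (p := 2) (by rw [pow_two, hσ2]) hσ1] at hr
        have hsum2 := sum_cycleType σ
        rw [hr, Multiset.sum_replicate, smul_eq_mul] at hsum2
        have hsign := Equiv.Perm.mem_alternatingGroup.1 (hH ((hKmem _).1 s.2).1)
        rw [sign_of_cycleType, hr, Multiset.sum_replicate, Multiset.card_replicate, smul_eq_mul] at hsign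
        have : r + 1 = 5 := by omega
        rw [this] at hsign
        norm_num at hsign
    -- now `K = ⟨x⟩` and the stabiliser of `a` is sharply two-transitive on twelve points
    set M := H ⊓ St a with hM
    have hKx : ∀ g ∈ K, g ∈ Subgroup.zpowers x := by
      have : Subgroup.zpowers x = K := Subgroup.eq_of_le_of_card_ge (Subgroup.zpowers_le.2 hxK)
        (by rw [hKL, hL1, hP])
      intro g hg; rw [this]; exact hg
    have horbM : MulAction.orbit M b = ({a}ᶜ : Set α) := by
      ext c
      constructor
      · rintro ⟨g, rfl⟩ hga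
        exact hab.symm (g.1.injective ((hga : g.1 b = a).trans g.2.2.symm))
      · intro hc
        obtain ⟨g, hg1, hg2⟩ := Cfsg.Agent.Lib.Perm.exists_smul_two
          (haveI := h3tr; MulAction.isMultiplyPretransitive_of_le (G := H) (α := α) (n := 3) (m := 2) (by norm_num)
            (by simp [Fintype.card_congr (Equiv.refl α), ENat.card_eq_coe_fintype_card, hα]))
          hab (Ne.symm hc : a ≠ c)
        exact ⟨⟨g.1, g.2, hg1⟩, hg2⟩
    have hMcard : Nat.card M = 132 := by
      rw [card_eq_orbit_mul M b, horbM, Set.ncard_compl, Set.ncard_singleton, Nat.card_eq_fintype_card, hα]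
      show (13 - 1) * Nat.card K = 132
      rw [hKL, hL1]
    -- an element of `M` with a fixed point besides `a` has order `11` or `1`
    have hfixed : ∀ g ∈ M, ∀ c, c ≠ a → g c = c → g ^ 11 = 1 := by
      intro g hg c hca hgc
      have hc' : c ∈ MulAction.orbit M b := by rw [horbM]; exact hca
      obtain ⟨⟨h, hhH, hha⟩, hhb⟩ := hc'
      have hha' : h a = a := hha
      have hhb' : h b = c := hhb
      have hmem : h⁻¹ * g * h ∈ K := by
        refine (hKmem _).2 ⟨H.mul_mem (H.mul_mem (H.inv_mem hhH) hg.1) hhH, ?_, ?_⟩
        · rw [mul_apply, mul_apply, hha', show g a = a from hg.2]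
          exact Equiv.Perm.inv_eq_iff_eq.2 hha'.symm
        · rw [mul_apply, mul_apply, hhb', hgc]
          exact Equiv.Perm.inv_eq_iff_eq.2 hhb'.symm
      obtain ⟨i, hi⟩ := hKx _ hmem
      have h1 : (h⁻¹ * g * h) ^ 11 = 1 := by
        rw [← show x ^ i = h⁻¹ * g * h from hi, ← zpow_natCast, ← zpow_mul, mul_comm, zpow_mul,
          zpow_natCast, ← hxo, pow_orderOf_eq_one, one_zpow]
      have h2 : g = h * (h⁻¹ * g * h) * h⁻¹ := by group
      rw [h2, conj_pow, h1, mul_one, mul_inv_cancel]
    haveI : Fintype M := Fintype.ofFinite M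
    -- elements of order not dividing eleven: at least two classes of eleven
    have hbig : ∀ g : M, orderOf g = 2 ∨ orderOf g = 3 → ∀ i j : Fin 11,
        x ^ (i : ℕ) * (g : Perm α) * (x ^ (i : ℕ))⁻¹ = x ^ (j : ℕ) * (g : Perm α) * (x ^ (j : ℕ))⁻¹ → i = j := by
      intro g hg i j hij
      by_contra hne
      have hcomm : Commute (g : Perm α) (x ^ ((j : ℤ) - i)) := by
        rw [zpow_sub, zpow_natCast, zpow_natCast]
        show (g : Perm α) * (x ^ (j : ℕ) * (x ^ (i : ℕ))⁻¹) = x ^ (j : ℕ) * (x ^ (i : ℕ))⁻¹ * g
        have e1 : (g : Perm α) * (x ^ (i : ℕ))⁻¹ = (x ^ (i : ℕ))⁻¹ * (x ^ (i : ℕ) * g * (x ^ (i : ℕ))⁻¹) := by group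
        calc (g : Perm α) * (x ^ (j : ℕ) * (x ^ (i : ℕ))⁻¹)
            = g * (x ^ (i : ℕ))⁻¹ * x ^ (j : ℕ) := by
              rw [mul_assoc, ← zpow_natCast, ← zpow_natCast, ← zpow_neg, (Commute.zpow_zpow_self x _ _).eq]
          _ = (x ^ (i : ℕ))⁻¹ * (x ^ (i : ℕ) * g * (x ^ (i : ℕ))⁻¹) * x ^ (j : ℕ) := by rw [e1]
          _ = (x ^ (i : ℕ))⁻¹ * (x ^ (j : ℕ) * g * (x ^ (j : ℕ))⁻¹) * x ^ (j : ℕ) := by rw [hij]
          _ = (x ^ (i : ℕ))⁻¹ * x ^ (j : ℕ) * g := by group
          _ = x ^ (j : ℕ) * (x ^ (i : ℕ))⁻¹ * g := by
              rw [← zpow_natCast, ← zpow_natCast, ← zpow_neg, (Commute.zpow_zpow_self x _ _).eq]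
      set y := x ^ ((j : ℤ) - i)
      have hyfix : y b = b := by
        exact zpow_apply_eq_self_of_apply_eq_self (notMem_support.1 ((hout b).2 (Or.inr rfl))) _
      have hgb : (g : Perm α) b = b := by
        have h1 : y ((g : Perm α) b) = (g : Perm α) b := by
          rw [← mul_apply, ← hcomm.eq, mul_apply, hyfix]
        have h2 : (g : Perm α) b ∉ x.support := by
          intro hmem
          have h3 := zpow_dvd hx hmem h1
          rw [hxo] at h3
          apply hne
          apply Fin.ext
          have hi := i.isLt; have hj := j.isLt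
          omega
        rcases (hout _).1 h2 with h3 | h3
        · exact absurd ((g : Perm α).injective (h3.trans g.2.2.symm)) hab.symm
        · exact h3
      have h4 := orderOf_dvd_of_pow_eq_one (hfixed g g.2 b hab.symm hgb)
      rw [Subgroup.orderOf_coe] at h4
      rcases hg with h | h <;> rw [h] at h4 <;> norm_num at h4
    obtain ⟨t, ht⟩ := exists_prime_orderOf_dvd_card' 2 (hMcard ▸ (by norm_num : 2 ∣ 132))
    obtain ⟨r, hr⟩ := exists_prime_orderOf_dvd_card' 3 (hMcard ▸ (by norm_num : 3 ∣ 132))
    let Fx : Perm α → Fin 11 → Perm α := fun g i => x ^ (i : ℕ) * g * (x ^ (i : ℕ))⁻¹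
    have hch : ∀ c : {c : α // c ≠ a}, ∃ h : M, (h : Perm α) b = c := by
      intro c
      have : (c : α) ∈ MulAction.orbit M b := by rw [horbM]; exact c.2
      obtain ⟨h, hh⟩ := this
      exact ⟨h, hh⟩
    choose hc hhc using hch
    have hxM : x ∈ M := ⟨hxH, notMem_support.1 ((hout a).2 (Or.inl rfl))⟩
    let f : (Option ({c : α // c ≠ a} × Fin 10)) ⊕ (Fin 11 ⊕ Fin 11) → M := fun z =>
      match z with
      | Sum.inl none => 1
      | Sum.inl (some (c, i)) => hc c * (⟨x, hxM⟩ : M) ^ ((i : ℕ) + 1) * (hc c)⁻¹
      | Sum.inr (Sum.inl i) => (⟨x, hxM⟩ : M) ^ (i : ℕ) * t * ((⟨x, hxM⟩ : M) ^ (i : ℕ))⁻¹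
      | Sum.inr (Sum.inr i) => (⟨x, hxM⟩ : M) ^ (i : ℕ) * r * ((⟨x, hxM⟩ : M) ^ (i : ℕ))⁻¹
    have hconjo : ∀ g h : M, orderOf (h * g * h⁻¹) = orderOf g := fun g h => by
      rw [← MulAut.conj_apply, MulEquiv.orderOf_eq]
    have hxMo : orderOf (⟨x, hxM⟩ : M) = 11 := by rw [Subgroup.orderOf_mk, hxo]
    have hox : ∀ i : Fin 10, orderOf ((⟨x, hxM⟩ : M) ^ ((i : ℕ) + 1)) = 11 := fun i => by
      refine orderOf_eq_prime ?_ ?_
      · rw [← pow_mul, mul_comm, pow_mul, ← hxMo, pow_orderOf_eq_one, one_pow]
      · intro h
        have := Nat.le_of_dvd (by omega) (orderOf_dvd_of_pow_eq_one h)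
        rw [hxMo] at this
        omega
    have hord : ∀ z, orderOf (f z) = match z with
      | Sum.inl none => 1
      | Sum.inl (some _) => 11
      | Sum.inr (Sum.inl _) => 2
      | Sum.inr (Sum.inr _) => 3 := by
      rintro ((_ | ⟨c, i⟩) | (i | i))
      · exact orderOf_one
      · exact (hconjo _ _).trans (hox i)
      · exact (hconjo _ _).trans ht
      · exact (hconjo _ _).trans hr
    have hfA : ∀ c i, ((f (Sum.inl (some (c, i))) : M) : Perm α) =
        (hc c : Perm α) * x ^ ((i : ℕ) + 1) * (hc c : Perm α)⁻¹ := fun _ _ => rfl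
    have hfB : ∀ i, ((f (Sum.inr (Sum.inl i)) : M) : Perm α) =
        x ^ (i : ℕ) * (t : Perm α) * (x ^ (i : ℕ))⁻¹ := fun _ => rfl
    have hfC : ∀ i, ((f (Sum.inr (Sum.inr i)) : M) : Perm α) =
        x ^ (i : ℕ) * (r : Perm α) * (x ^ (i : ℕ))⁻¹ := fun _ => rfl
    clear_value f
    have hinj : Function.Injective f := by
      rintro ((_ | ⟨c, i⟩) | (i | i)) ((_ | ⟨c', i'⟩) | (i' | i')) he
      all_goals have ho := congrArg orderOf he
      all_goals simp only [hord] at ho
      all_goals first
        | rfl
        | (norm_num at ho; done)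
        | skip
      · have hval : (hc c : Perm α) * x ^ ((i : ℕ) + 1) * (hc c : Perm α)⁻¹ =
            (hc c' : Perm α) * x ^ ((i' : ℕ) + 1) * (hc c' : Perm α)⁻¹ := by
          rw [← hfA, ← hfA, he]
        have hfixc : ((hc c' : Perm α) * x ^ ((i' : ℕ) + 1) * (hc c' : Perm α)⁻¹) c = c := by
          rw [← hval, mul_apply, mul_apply, Equiv.Perm.inv_eq_iff_eq.2 (hhc c).symm,
            pow_apply_eq_self_of_apply_eq_self (notMem_support.1 ((hout b).2 (Or.inr rfl))), hhc]
        rw [mul_apply, mul_apply] at hfixc
        set d := (hc c' : Perm α)⁻¹ c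
        have hd : (x ^ ((i' : ℕ) + 1)) d = d := (hc c' : Perm α).injective (by
          rw [hfixc]; simp [d])
        have hdx : d ∉ x.support := by
          intro hdx
          have h1 := zpow_dvd hx hdx (i := (((i' : ℕ) + 1 : ℕ) : ℤ)) (by rw [zpow_natCast]; exact hd)
          rw [hxo] at h1
          have := i'.isLt
          omega
        have hcc : c = c' := by
          rcases (hout d).1 hdx with h | h
          · exfalso
            apply c.2
            have : (hc c' : Perm α) d = (c : α) := by simp [d]
            rw [h] at this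
            exact this.symm.trans (hc c').2.2
          · apply Subtype.ext
            have : (hc c' : Perm α) d = (c : α) := by simp [d]
            rw [h, hhc] at this
            exact this.symm
        subst hcc
        have h2 : x ^ ((i : ℕ) + 1) = x ^ ((i' : ℕ) + 1) := mul_left_cancel (mul_right_cancel hval)
        have h3 := pow_eq_pow_iff_modEq.1 h2
        rw [hxo, Nat.ModEq] at h3
        have hi1 := i.isLt; have hi2 := i'.isLt
        have : i = i' := Fin.ext (by omega)
        rw [this]
      · rw [hbig t (Or.inl ht) i i' (by rw [← hfB, ← hfB, he])]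
      · rw [hbig r (Or.inr hr) i i' (by rw [← hfC, ← hfC, he])]
    have hle := Nat.card_le_card_of_injective f hinj
    rw [hMcard] at hle
    simp only [Nat.card_eq_fintype_card, Fintype.card_sum, Fintype.card_option, Fintype.card_prod,
      Fintype.card_fin, Fintype.card_subtype_compl, Fintype.card_subtype_eq, hα] at hle
    omega

end Cfsg.Agent.Lib.AltPair
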