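import Mathlib
import Cfsg.Agent.Lib.AltPair.Basic
import Cfsg.Agent.Lib.SmallGroups.Basic

/-!
Degree 7: a primitive even permutation group containing a 5-cycle is alternating.
-/

set_option autoImplicit false

namespace Cfsg.Agent.Lib.AltPair

open Equiv Equiv.Perm

variable {α : Type*} [Fintype α] [DecidableEq α]

private theorem zmod7_fifth : ∀ t : ZMod 7, t ^ 5 = 1 → t = 1 := by decide

/-- With a Sylow subgroup of prime order for the least prime, the other elements form a subgroup. -/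
private theorem exists_compl {G : Type*} [Group G] [Finite G] (p m : ℕ) [hp : Fact p.Prime]
    (hG : Nat.card G = p * m) (hmin : (p * m).minFac = p) (hm : ¬ p ∣ m) :
    ∃ N : Subgroup G, Nat.card N = m ∧ ∀ g : G, (orderOf g).Coprime p → g ∈ N := by
  have hmin' : (Nat.card G).minFac = p := hG ▸ hmin
  obtain ⟨P⟩ : Nonempty (Sylow p G) := inferInstance
  have hm0 : m ≠ 0 := fun h => hm (h ▸ dvd_zero p)
  have hPc : Nat.card (P : Subgroup G) = p := by
    rw [P.card_eq_multiplicity, hG, Nat.factorization_mul hp.out.ne_zero hm0, Finsupp.add_apply,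
      hp.out.factorization_self, Nat.factorization_eq_zero_of_not_dvd hm, Nat.add_zero, pow_one]
  have hcyc : IsCyclic (P : Subgroup G) := isCyclic_of_prime_card hPc
  have hc := IsCyclic.isComplement' hmin' hcyc
  refine ⟨(MonoidHom.transferSylow P (IsCyclic.normalizer_le_centralizer hmin' hcyc)).ker, ?_, fun g hg => ?_⟩
  · have h2 := hc.card_mul
    rw [hPc, hG, mul_comm] at h2
    exact Nat.eq_of_mul_eq_mul_left hp.out.pos h2
  · rw [MonoidHom.mem_ker, ← orderOf_eq_one_iff]
    refine Nat.eq_one_of_dvd_coprimes hg (orderOf_map_dvd _ g) ?_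
    exact (orderOf_dvd_natCard _).trans (dvd_of_eq hPc)

theorem degree_seven (H : Subgroup (Perm α)) (hH : H ≤ alternatingGroup α)
    (hα : Fintype.card α = 7) (hprim : MulAction.IsPreprimitive H α)
    {x : Perm α} (hxH : x ∈ H) (hx : x.IsCycle) (hxc : x.support.card = 5) :
    alternatingGroup α ≤ H := by
  classical
  obtain ⟨a, b, hab, hcompl⟩ := Finset.card_eq_two.1
    (show x.supportᶜ.card = 2 by rw [Finset.card_compl]; omega)
  have h3tr : MulAction.IsMultiplyPretransitive H α 3 := by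
    have hcardc : Nat.card (SubMulAction.ofFixingSubgroup H ((x.support : Set α)ᶜ)) = 5 := by
      rw [← hxc, ← Nat.card_eq_finsetCard]
      exact Nat.card_congr (Equiv.subtypeEquivRight fun c => by simp [SubMulAction.mem_ofFixingSubgroup_iff])
    haveI := Equiv.Perm.isPretransitive_of_isCycle_mem hx hxH
    have hp' := MulAction.IsPreprimitive.of_prime_card
      (G := fixingSubgroup H ((x.support : Set α)ᶜ))
      (X := SubMulAction.ofFixingSubgroup H ((x.support : Set α)ᶜ)) (hcardc.symm ▸ (by norm_num))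
    exact (hprim.isMultiplyPreprimitive (n := 1)
      (by rw [← Finset.coe_compl, Set.ncard_coe_finset, hcompl, Finset.card_pair hab])
      (by rw [Nat.card_eq_fintype_card]; omega) hp').isMultiplyPretransitive
  haveI : Nontrivial α := Fintype.one_lt_card_iff_nontrivial.1 (by omega)
  have h210 : 210 ∣ Nat.card H := by
    obtain ⟨c, hc⟩ := hx.nonempty_support
    have hcc : c ∉ ({a, b} : Finset α) := hcompl ▸ fun h => Finset.mem_compl.1 h hc
    have h := MulAction.IsMultiplyPretransitive.index_of_fixingSubgroup_mul (G := H) (α := α) (k := 3) h3tr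
      (s := ((insert c {a, b} : Finset α) : Set α))
      (by rw [Set.ncard_coe_finset, Finset.card_insert_of_notMem hcc, Finset.card_pair hab])
    rw [Nat.card_eq_fintype_card, hα] at h
    norm_num [Nat.factorial] at h
    have := (fixingSubgroup H ((insert c {a, b} : Finset α) : Set α)).index_dvd_card
    simp only [Finset.coe_insert, Finset.coe_singleton] at h this
    have h2 : (fixingSubgroup H (insert c {a, b} : Set α)).index = 210 := by omega
    rwa [h2] at this
  set A := alternatingGroup α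
  have hA : Nat.card A = 2520 := by
    rw [nat_card_alternatingGroup, Nat.card_eq_fintype_card, hα]; rfl
  set H' := H.subgroupOf A
  have hcard : Nat.card H' = Nat.card H := Nat.card_congr (Subgroup.subgroupOfEquivOfLe hH).toEquiv
  have hidx := Subgroup.card_mul_index H'
  rw [hA, hcard] at hidx
  by_contra hne
  have hne' : H' ≠ ⊤ := fun h => hne (Subgroup.subgroupOf_eq_top.1 h)
  haveI : IsSimpleGroup A := alternatingGroup.isSimpleGroup (by rw [Nat.card_eq_fintype_card, hα]; norm_num)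
  have hAna : ¬ IsMulCommutative A := by
    rw [alternatingGroup.isMulCommutative_iff_card_le_three, Nat.card_eq_fintype_card, hα]; norm_num
  obtain ⟨f, hf⟩ := Lib.SmallGroups.exists_injective_alternating hAna hne'
  have hle := Nat.card_le_card_of_injective f hf
  have hi : 7 ≤ H'.index := by
    by_contra hlt
    have h2 : Nat.card (alternatingGroup (Fin H'.index)) ≤ Nat.card (Perm (Fin H'.index)) :=
      Subgroup.card_le_card_group _
    rw [Nat.card_perm, Nat.card_fin] at h2
    have h4 : H'.index.factorial ≤ Nat.factorial 6 := Nat.factorial_le (by omega)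
    rw [hA] at hle
    norm_num [Nat.factorial] at h4
    omega
  obtain ⟨k, hk⟩ := h210
  have hk1 : k = 1 := by
    rw [hk] at hidx
    have : k * H'.index = 12 := by nlinarith
    have : k ≤ 1 := by
      by_contra h'
      nlinarith
    have : k ≠ 0 := fun h => by subst h; norm_num at hidx
    omega
  subst hk1
  haveI : Fact (Nat.Prime 2) := ⟨Nat.prime_two⟩
  haveI : Fact (Nat.Prime 3) := ⟨Nat.prime_three⟩
  haveI : Fact (Nat.Prime 5) := ⟨by norm_num⟩
  haveI : Fact (Nat.Prime 7) := ⟨by norm_num⟩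
  obtain ⟨z, hz⟩ := exists_prime_orderOf_dvd_card' 7 (hk ▸ (by norm_num : 7 ∣ 210 * 1))
  have hxo : orderOf (⟨x, hxH⟩ : H) = 5 := by rw [Subgroup.orderOf_mk, hx.orderOf, hxc]
  obtain ⟨N₁, hN₁, hm₁⟩ := exists_compl (G := H) 2 105 (by rw [hk]) (by norm_num) (by norm_num)
  obtain ⟨N₂, hN₂, hm₂⟩ := exists_compl (G := N₁) 3 35 (by rw [hN₁]) (by norm_num) (by norm_num)
  set z₁ : N₁ := ⟨z, hm₁ z (by rw [hz]; norm_num)⟩
  set x₁ : N₁ := ⟨⟨x, hxH⟩, hm₁ _ (by rw [hxo]; norm_num)⟩
  set z₂ : N₂ := ⟨z₁, hm₂ _ (by rw [Subgroup.orderOf_mk, hz]; norm_num)⟩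
  set x₂ : N₂ := ⟨x₁, hm₂ _ (by rw [Subgroup.orderOf_mk, hxo]; norm_num)⟩
  obtain ⟨N₃, hN₃, hm₃⟩ := exists_compl (G := N₂) 5 7 (by rw [hN₂]) (by norm_num) (by norm_num)
  have hzo : orderOf z₂ = 7 := by rw [Subgroup.orderOf_mk, Subgroup.orderOf_mk, hz]
  have hgen : ∀ g : N₂, (orderOf g).Coprime 5 → g ∈ Subgroup.zpowers z₂ := by
    intro g hg
    have : Subgroup.zpowers z₂ = N₃ := Subgroup.eq_of_le_of_card_ge
      (Subgroup.zpowers_le.2 (hm₃ _ (by rw [hzo]; norm_num))) (by rw [Nat.card_zpowers, hzo, hN₃])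
    rw [this]; exact hm₃ g hg
  obtain ⟨i, hi⟩ := hgen (x₂ * z₂ * x₂⁻¹) (by rw [← MulAut.conj_apply, MulEquiv.orderOf_eq, hzo]; norm_num)
  have hit : ∀ j : ℕ, x₂ ^ j * z₂ * (x₂ ^ j)⁻¹ = z₂ ^ (i ^ j) := by
    intro j
    induction j with
    | zero => simp
    | succ j ih =>
      rw [pow_succ' x₂ j, pow_succ i j, show x₂ * x₂ ^ j * z₂ * (x₂ * x₂ ^ j)⁻¹ = x₂ * (x₂ ^ j * z₂ * (x₂ ^ j)⁻¹) * x₂⁻¹ by group,
        ih, ← conj_zpow, show x₂ * z₂ * x₂⁻¹ = z₂ ^ i from hi.symm, ← zpow_mul, mul_comm]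
  have hx5 : x₂ ^ 5 = 1 := by
    rw [← orderOf_dvd_iff_pow_eq_one, Subgroup.orderOf_mk, Subgroup.orderOf_mk, hxo]
  have h1 := hit 5
  rw [hx5, one_mul, inv_one, mul_one] at h1
  have hi7 : (7 : ℤ) ∣ i ^ 5 - 1 := by
    have : (orderOf z₂ : ℤ) ∣ i ^ 5 - 1 := by
      rw [orderOf_dvd_iff_zpow_eq_one, zpow_sub_one, ← h1, mul_inv_cancel]
    rwa [hzo] at this
  have hi1 : (7 : ℤ) ∣ i - 1 := by
    have h5 : ((i : ZMod 7)) ^ 5 = 1 := by
      have := (ZMod.intCast_zmod_eq_zero_iff_dvd (i ^ 5 - 1) 7).2 hi7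
      push_cast at this
      exact sub_eq_zero.1 this
    have key := zmod7_fifth
    have := key _ h5
    have h8 := (ZMod.intCast_zmod_eq_zero_iff_dvd (i - 1) 7).1 (by push_cast; rw [this]; ring)
    exact h8
  have hcomm : Commute (x₂) z₂ := by
    have h3 : z₂ ^ (i - 1) = 1 := orderOf_dvd_iff_zpow_eq_one.1 (by rw [hzo]; exact hi1)
    rw [zpow_sub_one, mul_inv_eq_one] at h3
    show x₂ * z₂ = z₂ * x₂
    have h4 : x₂ * z₂ * x₂⁻¹ = z₂ := by rw [← show z₂ ^ i = x₂ * z₂ * x₂⁻¹ from hi, h3]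
    exact mul_inv_eq_iff_eq_mul.1 h4
  have hcomm' : Commute x (z : Perm α) :=
    congrArg (fun g : N₂ => ((g : N₁) : H).1) hcomm
  have hzc : (z : Perm α).IsCycle :=
    isCycle_of_prime_order'' (by rw [hα]; norm_num) (by rw [Subgroup.orderOf_coe, hz, hα])
  have hzs : (z : Perm α).support = Finset.univ := by
    rw [← Finset.card_eq_iff_eq_univ, ← hzc.orderOf, Subgroup.orderOf_coe, hz, hα]
  have hmem := mem_zpowers_of_commute hzc hcomm' (fun c hc => absurd (hzs ▸ Finset.mem_univ c) hc)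
  have h5 := orderOf_dvd_of_mem_zpowers hmem
  rw [hx.orderOf, hxc, Subgroup.orderOf_coe, hz] at h5
  norm_num at h5

end Cfsg.Agent.Lib.AltPair
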