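import Mathlib.NumberTheory.Bertrand
import Mathlib.Tactic

/-!
Three primes in `(n/2, n]` for `n ≥ 18` (Chebyshev–Erdős argument, as for Bertrand's postulate).
-/

namespace Cfsg.Agent.Lib.AltPair

open Nat

private lemma succ_le_two_pow_div {s : ℕ} (hs : 64 ≤ s) : s + 1 ≤ 2 ^ (s / 8) := by
  have key : ∀ k, 8 ≤ k → 8 * k + 8 ≤ 2 ^ k := by
    intro k hk
    induction k, hk using Nat.le_induction with
    | base => norm_num
    | succ k hk ih => rw [pow_succ]; omega
  have := key (s / 8) (by omega)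
  omega

private lemma main_ineq {m : ℕ} (hm : 2048 ≤ m) :
    m * ((2 * m) * (2 * m)) * (2 * m) ^ Nat.sqrt (2 * m) * 4 ^ (2 * m / 3) ≤ 4 ^ m := by
  set s := Nat.sqrt (2 * m) with hs
  have hs64 : 64 ≤ s := Nat.le_sqrt'.mpr (by omega)
  have hs1 : s ^ 2 ≤ 2 * m := Nat.sqrt_le' _
  have hs2 : 2 * m < (s + 1) ^ 2 := Nat.lt_succ_sqrt' _
  have h2m : 2 * m ≤ (2 ^ (s / 8)) ^ 2 :=
    hs2.le.trans (Nat.pow_le_pow_left (succ_le_two_pow_div hs64) 2)
  have hexp : 2 * (s / 8 * (s + 3)) + 2 * (2 * m / 3) ≤ 2 * m := by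
    have h8 : 8 * (s / 8) ≤ s := Nat.mul_div_le _ _
    have h64 : 64 * s ≤ s ^ 2 := by rw [sq]; exact Nat.mul_le_mul_right s hs64
    have : 8 * (s / 8 * (s + 3)) ≤ s ^ 2 + 3 * s := by
      nlinarith [Nat.mul_le_mul_right (s + 3) h8]
    omega
  calc m * ((2 * m) * (2 * m)) * (2 * m) ^ s * 4 ^ (2 * m / 3)
      ≤ (2 * m) * ((2 * m) * (2 * m)) * (2 * m) ^ s * 4 ^ (2 * m / 3) := by gcongr; omega
    _ = (2 * m) ^ (s + 3) * 4 ^ (2 * m / 3) := by ring
    _ ≤ ((2 ^ (s / 8)) ^ 2) ^ (s + 3) * 4 ^ (2 * m / 3) := by gcongr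
    _ = 2 ^ (2 * (s / 8 * (s + 3)) + 2 * (2 * m / 3)) := by
      conv_lhs => rw [show (4 : ℕ) = 2 ^ 2 from rfl, ← pow_mul, ← pow_mul, ← pow_mul, ← pow_add]
      congr 1
      ring
    _ ≤ 2 ^ (2 * m) := Nat.pow_le_pow_right (by norm_num) hexp
    _ = 4 ^ m := by rw [pow_mul]; norm_num

private lemma centralBinom_le {m : ℕ} (hm : 2 < m) (P₀ : Finset ℕ)
    (hcard : P₀.card ≤ 2) (h : ∀ q : ℕ, q.Prime → m < q → q ≤ 2 * m → q ∈ P₀) :
    Nat.centralBinom m ≤ ((2 * m) * (2 * m)) * (2 * m) ^ Nat.sqrt (2 * m) * 4 ^ (2 * m / 3) := by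
  classical
  have hm0 : 0 < 2 * m := by omega
  set f : ℕ → ℕ := fun x => x ^ (Nat.centralBinom m).factorization x with hf
  set R : Finset ℕ := (Finset.range (2 * m + 1)).filter Nat.Prime with hR
  have h0 : Nat.centralBinom m = ∏ x ∈ R, f x := by
    refine m.prod_pow_factorization_centralBinom.symm.trans ?_
    symm
    refine Finset.prod_filter_of_ne fun p _ hp => ?_
    by_contra hnp
    apply hp
    simp [hf, Nat.factorization_eq_zero_of_not_prime _ hnp]
  have hle2m : ∀ x, f x ≤ 2 * m := fun x => Nat.pow_factorization_choose_le hm0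
  set P : ℕ → Prop := fun x => m < x with hP
  rw [h0, ← Finset.prod_filter_mul_prod_filter_not R P, mul_assoc]
  apply mul_le_mul'
  · -- primes above m: at most two
    have hsub : R.filter P ⊆ P₀ := by
      intro x hx
      simp only [hR, hP, Finset.mem_filter, Finset.mem_range] at hx
      exact h x hx.1.2 hx.2 (by omega)
    refine (Finset.prod_le_prod' fun p _ => hle2m p).trans ?_
    rw [Finset.prod_const, ← sq]
    exact Nat.pow_le_pow_right hm0 ((Finset.card_le_card hsub).trans hcard)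
  · set T := R.filter (fun x => ¬ P x)
    rw [← Finset.prod_filter_mul_prod_filter_not T (fun x => x ≤ Nat.sqrt (2 * m))]
    apply mul_le_mul'
    · refine (Finset.prod_le_prod' fun p _ => hle2m p).trans ?_
      rw [Finset.prod_const]
      refine Nat.pow_le_pow_right hm0 ?_
      refine (Finset.card_le_card (t := Finset.Icc 1 (Nat.sqrt (2 * m))) fun x hx => ?_).trans
        (by simp)
      simp only [T, hR, hP, Finset.mem_filter] at hx
      exact Finset.mem_Icc.mpr ⟨hx.1.1.2.one_lt.le, hx.2⟩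
    · calc ∏ x ∈ T.filter (fun x => ¬ x ≤ Nat.sqrt (2 * m)), f x
          ≤ ∏ x ∈ T.filter (fun x => ¬ x ≤ Nat.sqrt (2 * m)), (if x ≤ 2 * m / 3 then x else 1) := by
            refine Finset.prod_le_prod' fun p hp => ?_
            simp only [T, hR, hP, Finset.mem_filter] at hp
            obtain ⟨⟨⟨-, hpp⟩, hpm⟩, hps⟩ := hp
            split_ifs with hp3
            · refine (Nat.pow_le_pow_right hpp.one_lt.le ?_).trans (pow_one p).le
              exact Nat.factorization_choose_le_one (Nat.sqrt_lt'.mp (not_le.1 hps))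
            · simp only [hf]
              rw [Nat.factorization_centralBinom_of_two_mul_self_lt_three_mul hm (by omega)
                (by omega), pow_zero]
        _ ≤ ∏ x ∈ (Finset.range (2 * m / 3 + 1)).filter Nat.Prime, x := by
            rw [← Finset.prod_filter]
            refine Finset.prod_le_prod_of_subset_of_one_le' (fun x hx => ?_) ?_
            · simp only [T, hR, hP, Finset.mem_filter, Finset.mem_range] at hx ⊢
              exact ⟨by omega, hx.1.1.1.2⟩
            · exact fun p hp _ => (Finset.mem_filter.1 hp).2.one_lt.le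
        _ ≤ 4 ^ (2 * m / 3) := primorial_le_four_pow _

private lemma eventually (m : ℕ) (hm : 2048 ≤ m) :
    ∃ a b c : ℕ, a.Prime ∧ b.Prime ∧ c.Prime ∧ a < b ∧ b < c ∧ m < a ∧ c ≤ 2 * m := by
  classical
  set P₀ := (Finset.Ioc m (2 * m)).filter Nat.Prime with hP₀
  by_contra hcon
  have hcard : P₀.card ≤ 2 := by
    by_contra hc
    let f := P₀.orderEmbOfFin rfl
    have hmem : ∀ i, (f i).Prime ∧ m < f i ∧ f i ≤ 2 * m := fun i => by
      have := Finset.mem_filter.1 (P₀.orderEmbOfFin_mem rfl i)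
      exact ⟨this.2, Finset.mem_Ioc.1 this.1⟩
    exact hcon ⟨f ⟨0, by omega⟩, f ⟨1, by omega⟩, f ⟨2, by omega⟩, (hmem _).1, (hmem _).1, (hmem _).1,
      f.strictMono (by simp), f.strictMono (by simp), (hmem _).2.1, (hmem _).2.2⟩
  have hlow := Nat.four_pow_lt_mul_centralBinom m (by omega)
  have hup := centralBinom_le (m := m) (by omega) P₀ hcard
    fun q hq h1 h2 => Finset.mem_filter.mpr ⟨Finset.mem_Ioc.mpr ⟨h1, h2⟩, hq⟩
  have := main_ineq hm
  have h' := Nat.mul_le_mul_left m hup
  rw [← mul_assoc, ← mul_assoc] at h'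
  omega

/-- For `n ≥ 18` there are three distinct primes in `(n/2, n]`. -/
theorem exists_three_primes_half (n : ℕ) (hn : 18 ≤ n) :
    ∃ a b c : ℕ, a.Prime ∧ b.Prime ∧ c.Prime ∧ a < b ∧ b < c ∧ n < 2 * a ∧ c ≤ n := by
  suffices h : ∀ m, 9 ≤ m → ∃ a b c : ℕ, a.Prime ∧ b.Prime ∧ c.Prime ∧ a < b ∧ b < c ∧ m < a ∧ c ≤ 2 * m by
    obtain ⟨a, b, c, ha, hb, hc, h1, h2, h3, h4⟩ := h (n / 2) (by omega)
    exact ⟨a, b, c, ha, hb, hc, h1, h2, by omega, by omega⟩
  intro m hm
  by_cases h : 2048 ≤ m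
  · exact eventually m h
  by_cases h0 : m < 11
  · exact ⟨11, 13, 17, by norm_num, by norm_num, by norm_num, by omega, by omega, by omega, by omega⟩
  by_cases h1 : m < 13
  · exact ⟨13, 17, 19, by norm_num, by norm_num, by norm_num, by omega, by omega, by omega, by omega⟩
  by_cases h2 : m < 17
  · exact ⟨17, 19, 23, by norm_num, by norm_num, by norm_num, by omega, by omega, by omega, by omega⟩
  by_cases h3 : m < 23
  · exact ⟨23, 29, 31, by norm_num, by norm_num, by norm_num, by omega, by omega, by omega, by omega⟩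
  by_cases h4 : m < 37
  · exact ⟨37, 41, 43, by norm_num, by norm_num, by norm_num, by omega, by omega, by omega, by omega⟩
  by_cases h5 : m < 67
  · exact ⟨67, 71, 73, by norm_num, by norm_num, by norm_num, by omega, by omega, by omega, by omega⟩
  by_cases h6 : m < 113
  · exact ⟨113, 127, 131, by norm_num, by norm_num, by norm_num, by omega, by omega, by omega, by omega⟩
  by_cases h7 : m < 199
  · exact ⟨199, 211, 223, by norm_num, by norm_num, by norm_num, by omega, by omega, by omega, by omega⟩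
  by_cases h8 : m < 383
  · exact ⟨383, 389, 397, by norm_num, by norm_num, by norm_num, by omega, by omega, by omega, by omega⟩
  by_cases h9 : m < 751
  · exact ⟨751, 757, 761, by norm_num, by norm_num, by norm_num, by omega, by omega, by omega, by omega⟩
  by_cases h10 : m < 1489
  · exact ⟨1489, 1493, 1499, by norm_num, by norm_num, by norm_num, by omega, by omega, by omega, by omega⟩
  exact ⟨2963, 2969, 2971, by norm_num, by norm_num, by norm_num, by omega, by omega, by omega, by omega⟩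

end Cfsg.Agent.Lib.AltPair
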